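import Groth.Prelude.Def_SpSeq
import Mathlib.Algebra.Homology.ShortComplex.Ab
import Mathlib.Algebra.Category.Grp.Abelian
import Mathlib.Algebra.Category.Grp.Zero
import Mathlib.Algebra.Homology.Single
import Mathlib.Data.Int.Interval
import Mathlib.CategoryTheory.Abelian.Refinements

/-!
A spectral sequence with prescribed first page from a sequence of split monomorphisms: the second
page is concentrated in the column `p = 0`.
-/

set_option autoImplicit false
set_option linter.style.haveILetI false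
set_option linter.unusedSectionVars false
set_option backward.isDefEq.respectTransparency false
set_option backward.isDefEq.respectTransparency.types false

universe u

open CategoryTheory Category Limits

namespace Groth.Agent.CohTopDesc

section Split

variable {C : Type*} [Category C] [Abelian C] {H : C} {A : ℕ → C}
  (r₀ : Retract H (A 0)) (r : ∀ p, Retract (A p) (A (p + 1)))

/-- The complement of a retract. -/
noncomputable abbrev Compl {X Y : C} (e : Retract X Y) : C := kernel e.r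

/-- The projection to the complement. -/
noncomputable def complProj {X Y : C} (e : Retract X Y) : Y ⟶ Compl e :=
  kernel.lift e.r (𝟙 Y - e.r ≫ e.i) (by simp [Preadditive.sub_comp])

theorem ι_complProj {X Y : C} (e : Retract X Y) : kernel.ι e.r ≫ complProj e = 𝟙 _ := by
  rw [← cancel_mono (kernel.ι e.r)]
  simp [complProj, Preadditive.comp_sub]

theorem i_complProj {X Y : C} (e : Retract X Y) : e.i ≫ complProj e = 0 := by
  rw [← cancel_mono (kernel.ι e.r)]
  simp [complProj, Preadditive.comp_sub]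

/-- The complement of a retract is a retract. -/
noncomputable def complRetract {X Y : C} (e : Retract X Y) : Retract (Compl e) Y where
  i := kernel.ι e.r
  r := complProj e
  retract := ι_complProj e

/-- The iterated complements, as retracts of the terms. -/
noncomputable def kRet : ∀ p, Σ K : C, Retract K (A p)
  | 0 => ⟨_, complRetract r₀⟩
  | p + 1 => ⟨_, complRetract ((kRet p).2.trans (r p))⟩

/-- The iterated complement. -/
noncomputable abbrev Kc (p : ℕ) : C := (kRet r₀ r p).1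

/-- The differential. -/
noncomputable def δ (p : ℕ) : A p ⟶ A (p + 1) := (kRet r₀ r p).2.r ≫ ((kRet r₀ r p).2.trans (r p)).i

theorem δ_δ (p : ℕ) : δ r₀ r p ≫ δ r₀ r (p + 1) = 0 := by
  change ((kRet r₀ r p).2.r ≫ ((kRet r₀ r p).2.trans (r p)).i) ≫
    complProj ((kRet r₀ r p).2.trans (r p)) ≫ _ = 0
  rw [assoc, ← assoc _ (complProj _), i_complProj, zero_comp, comp_zero]

theorem exact_δ (p : ℕ) : (ShortComplex.mk _ _ (δ_δ r₀ r p)).Exact := by
  let e := (kRet r₀ r p).2.trans (r p)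
  rw [ShortComplex.exact_iff_exact_up_to_refinements]
  intro T x hx
  have h0 : x ≫ complProj e = 0 := by
    haveI : Mono ((kRet r₀ r (p + 1)).2.trans (r (p + 1))).i := inferInstance
    rw [← cancel_mono ((kRet r₀ r (p + 1)).2.trans (r (p + 1))).i, zero_comp, assoc]
    exact hx
  have h1 : x = x ≫ e.r ≫ e.i := by
    have := congrArg (· ≫ kernel.ι e.r) h0
    simpa [complProj, Preadditive.comp_sub, sub_eq_zero] using this
  refine ⟨T, 𝟙 T, inferInstance, x ≫ e.r ≫ (kRet r₀ r p).2.i, ?_⟩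
  change 𝟙 T ≫ x = (x ≫ e.r ≫ (kRet r₀ r p).2.i) ≫ (kRet r₀ r p).2.r ≫ e.i
  rw [id_comp, assoc, assoc, (kRet r₀ r p).2.retract_assoc]
  exact h1

theorem i_δ_zero : r₀.i ≫ δ r₀ r 0 = 0 := by
  change r₀.i ≫ complProj r₀ ≫ _ = 0
  rw [← assoc, i_complProj, zero_comp]

/-- The augmentation is the kernel of the first differential. -/
noncomputable def isKernel_zero : IsLimit (KernelFork.ofι r₀.i (i_δ_zero r₀ r)) :=
  KernelFork.IsLimit.ofι' _ _ fun {T} x hx => ⟨x ≫ r₀.r, by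
    have h0 : x ≫ complProj r₀ = 0 := by
      haveI : Mono ((kRet r₀ r 0).2.trans (r 0)).i := inferInstance
      rw [← cancel_mono ((kRet r₀ r 0).2.trans (r 0)).i, zero_comp, assoc]
      exact hx
    have := congrArg (· ≫ kernel.ι r₀.r) h0
    simp [complProj, Preadditive.comp_sub, sub_eq_zero] at this
    rw [assoc]; exact this.symm⟩

end Split

section SS

variable {C : Type*} [Category C] [Abelian C] (H : ℕ → C) (A : ℕ → ℕ → C)
  (r₀ : ∀ q, Retract (H q) (A q 0)) (r : ∀ q p, Retract (A q p) (A q (p + 1))) (Z : C) (hZ : IsZero Z)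

/-- The terms of the first page. -/
def X1 : ℤ → ℤ → C
  | Int.ofNat p, Int.ofNat q => A q p
  | _, _ => Z

/-- The terms of the later pages. -/
def X2 : ℤ → ℤ → C
  | Int.ofNat 0, Int.ofNat q => H q
  | _, _ => Z

/-- The differential of the first page. -/
noncomputable def D1 : ∀ p q : ℤ, X1 A Z p q ⟶ X1 A Z (p + 1) q
  | Int.ofNat p, Int.ofNat q => δ (r₀ q) (r q) p
  | Int.ofNat _, Int.negSucc _ => 0
  | Int.negSucc _, _ => 0

theorem D1_D1 : ∀ p q : ℤ, D1 H A r₀ r Z p q ≫ D1 H A r₀ r Z (p + 1) q = 0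
  | Int.ofNat p, Int.ofNat q => δ_δ (r₀ q) (r q) p
  | Int.ofNat _, Int.negSucc _ => zero_comp
  | Int.negSucc _, _ => zero_comp

/-- The first page. -/
noncomputable def page1 : HomologicalComplex C (ComplexShape.up' (⟨1, 1 - 1⟩ : ℤ × ℤ)) where
  X pq := X1 A Z pq.1 pq.2
  d pq pq' := if h : pq.1 + 1 = pq'.1 ∧ pq.2 = pq'.2 then
    D1 H A r₀ r Z pq.1 pq.2 ≫ eqToHom (by rw [h.1, h.2]) else 0
  shape pq pq' h := dif_neg fun h' => h (Prod.ext h'.1 (by simp [h'.2]))
  d_comp_d' := by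
    rintro ⟨a, b⟩ ⟨a', b'⟩ ⟨a'', b''⟩ h h'
    obtain ⟨rfl, rfl⟩ : a' = a + 1 ∧ b' = b := by
      simp [Prod.ext_iff] at h; exact ⟨h.1.symm, h.2.symm⟩
    obtain ⟨rfl, rfl⟩ : a'' = a + 1 + 1 ∧ b'' = b' := by
      simp [Prod.ext_iff] at h'; exact ⟨h'.1.symm, h'.2.symm⟩
    simp [D1_D1]

theorem page1_d (p q : ℤ) : (page1 H A r₀ r Z).d (p, q) (p + 1, q) = D1 H A r₀ r Z p q := by
  simp [page1]

/-- The later pages. -/
noncomputable def page2 (n : ℤ) : HomologicalComplex C (ComplexShape.up' (⟨n, 1 - n⟩ : ℤ × ℤ)) where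
  X pq := X2 H Z pq.1 pq.2
  d _ _ := 0

include hZ in
theorem isZero_X1 : ∀ p q : ℤ, p < 0 ∨ q < 0 → IsZero (X1 A Z p q)
  | Int.ofNat _, Int.ofNat _, h => by simp only [Int.ofNat_eq_natCast] at h; omega
  | Int.ofNat _, Int.negSucc _, _ => hZ
  | Int.negSucc _, _, _ => hZ

include hZ in
theorem isZero_X2 : ∀ p q : ℤ, p ≠ 0 ∨ q < 0 → IsZero (X2 H Z p q)
  | Int.ofNat 0, Int.ofNat _, h => by simp only [Int.ofNat_eq_natCast] at h; omega
  | Int.ofNat (_ + 1), Int.ofNat _, _ => hZ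
  | Int.ofNat 0, Int.negSucc _, _ => hZ
  | Int.ofNat (_ + 1), Int.negSucc _, _ => hZ
  | Int.negSucc _, _, _ => hZ

include hZ in
theorem nonempty_homology_iso (pq : ℤ × ℤ) :
    Nonempty ((page1 H A r₀ r Z).homology pq ≅ X2 H Z pq.1 pq.2) := by
  obtain ⟨p, q⟩ := pq
  let P := page1 H A r₀ r Z
  let e := ShortComplex.homologyMapIso (P.isoSc' (p - 1, q) (p, q) (p + 1, q)
    (ComplexShape.prev_eq' _ (by simp)) (ComplexShape.next_eq' _ (by simp)))
  by_cases h : p < 0 ∨ q < 0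
  · exact ⟨((ShortComplex.HomologyData.ofZeros _
      ((isZero_X1 A Z hZ p q h).eq_of_tgt _ _) ((isZero_X1 A Z hZ p q h).eq_of_src _ _)).left.homologyIso.trans
        (IsZero.iso (isZero_X1 A Z hZ p q h) (isZero_X2 H Z hZ p q (by omega))))⟩
  obtain ⟨m, rfl⟩ : ∃ m : ℕ, p = m := ⟨p.toNat, by omega⟩
  obtain ⟨n, rfl⟩ : ∃ n : ℕ, q = n := ⟨q.toNat, by omega⟩
  cases m with
  | zero =>
    let S := P.sc' (((0 : ℕ) : ℤ) - 1, (n : ℤ)) (((0 : ℕ) : ℤ), (n : ℤ)) (((0 : ℕ) : ℤ) + 1, (n : ℤ))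
    have hf : S.f = 0 := (isZero_X1 A Z hZ _ _ (Or.inl (by omega))).eq_of_src _ _
    have hg : S.g = δ (r₀ n) (r n) 0 := page1_d H A r₀ r Z 0 n
    have hw : (r₀ n).i ≫ S.g = 0 := by rw [hg]; exact i_δ_zero _ _
    have hlim : IsLimit (KernelFork.ofι (f := S.g) (r₀ n).i hw) :=
      KernelFork.IsLimit.ofι' _ hw fun {T} x hx =>
        KernelFork.IsLimit.lift' (isKernel_zero (r₀ n) (r n)) x (by rw [← hg]; exact hx)
    exact ⟨e ≪≫ (ShortComplex.LeftHomologyData.ofIsLimitKernelFork S hf _ hlim).homologyIso⟩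
  | succ m =>
    have hS : (P.sc' (((m + 1 : ℕ) : ℤ) - 1, (n : ℤ)) (((m + 1 : ℕ) : ℤ), (n : ℤ)) (((m + 1 : ℕ) : ℤ) + 1, (n : ℤ))).Exact := by
      rw [show ((m + 1 : ℕ) : ℤ) - 1 = (m : ℤ) by omega]
      let S := P.sc' ((m : ℤ), (n : ℤ)) (((m + 1 : ℕ) : ℤ), (n : ℤ)) (((m + 1 : ℕ) : ℤ) + 1, (n : ℤ))
      have hf : S.f = δ (r₀ n) (r n) m := page1_d H A r₀ r Z (m : ℤ) n
      have hg : S.g = δ (r₀ n) (r n) (m + 1) := page1_d H A r₀ r Z ((m + 1 : ℕ) : ℤ) n
      exact ShortComplex.exact_of_iso (S₁ := ShortComplex.mk _ _ (δ_δ (r₀ n) (r n) m)) (S₂ := S)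
        (ShortComplex.isoMk (Iso.refl _) (Iso.refl _) (Iso.refl _)
          ((id_comp _).trans (hf.trans (comp_id _).symm)) ((id_comp _).trans (hg.trans (comp_id _).symm)))
        (exact_δ (r₀ n) (r n) m)
    exact ⟨IsZero.iso (IsZero.of_iso ((ShortComplex.exact_iff_isZero_homology _).1 hS) e)
      (isZero_X2 H Z hZ _ _ (Or.inl (by omega)))⟩

open Classical in
/-- The pages. -/
noncomputable def pages (n : ℤ) : HomologicalComplex C (ComplexShape.up' (⟨n, 1 - n⟩ : ℤ × ℤ)) :=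
  if h : n = 1 then h.symm ▸ page1 H A r₀ r Z else page2 H Z n

theorem pages_one : pages H A r₀ r Z 1 = page1 H A r₀ r Z := dif_pos rfl

theorem pages_of_ne {n : ℤ} (h : n ≠ 1) : pages H A r₀ r Z n = page2 H Z n := dif_neg h

/-- The spectral sequence. -/
noncomputable def splitSS : CohomologicalSpectralSequence C 1 where
  page n _ := pages H A r₀ r Z n
  iso n n' pq hn hr :=
    if h : n = 1 then
      eqToIso (by subst h; rw [pages_one]) ≪≫ (nonempty_homology_iso H A r₀ r Z hZ pq).some ≪≫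
        eqToIso (by rw [pages_of_ne H A r₀ r Z (show n' ≠ 1 by omega)]; rfl)
    else
      eqToIso (congrArg (fun K => HomologicalComplex.homology K pq) (pages_of_ne H A r₀ r Z h)) ≪≫
        (ShortComplex.HomologyData.ofZeros ((page2 H Z n).sc pq) rfl rfl).left.homologyIso ≪≫
        eqToIso (by rw [pages_of_ne H A r₀ r Z (show n' ≠ 1 by omega)]; rfl)

/-- The filtration concentrated in degree zero. -/
noncomputable def fil0 (X : C) (p : ℤ) : Subobject X := if p ≤ 0 then ⊤ else ⊥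

theorem fil0_anti (X : C) : Antitone (fil0 X) := fun a b h => by
  unfold fil0
  split_ifs <;> first | exact le_rfl | exact bot_le | omega

theorem gr_fil0_zero (X : C) : Nonempty (SpSeq.grPiece (fil0 X) (fil0_anti X) 0 ≅ X) := by
  have h1 : fil0 X 1 = ⊥ := if_neg (by omega)
  have h0 : fil0 X 0 = ⊤ := if_pos le_rfl
  have hz : IsZero (fil0 X (0 + 1) : C) := by
    rw [zero_add, h1]
    exact (isZero_zero C).of_iso Subobject.botCoeIsoZero
  exact ⟨cokernelIsoOfEq (hz.eq_of_src _ 0) ≪≫ cokernelZeroIsoTarget ≪≫ eqToIso (by rw [h0]) ≪≫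
    asIso (⊤ : Subobject X).arrow⟩

theorem isZero_gr_fil0 (X : C) {p : ℤ} (hp : p ≠ 0) :
    IsZero (SpSeq.grPiece (fil0 X) (fil0_anti X) p) := by
  have h : fil0 X p ≤ fil0 X (p + 1) := by
    unfold fil0
    split_ifs <;> first | exact le_rfl | omega
  haveI : IsIso ((fil0 X (p + 1)).ofLE (fil0 X p) (fil0_anti X (Int.le_add_one le_rfl))) :=
    ⟨Subobject.ofLE _ _ h, by simp, by simp⟩
  exact isZero_cokernel_of_epi _

include hZ r₀ r in
theorem exists_splitSS (H' : ℤ → C) (e : ∀ q : ℕ, Nonempty (H' q ≅ H q)) (hneg : ∀ n < 0, IsZero (H' n)) :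
    ∃ (E : CohomologicalSpectralSequence C 1) (a : SpSeq.Abutment E H'),
      (∀ n, a.IsFinite n) ∧ SpSeq.IsBounded E ∧ ∀ p q : ℤ, Nonempty ((E.page 1 le_rfl).X (p, q) ≅ X1 A Z p q) := by
  let E := splitSS H A r₀ r Z hZ
  have hne : ∀ pq : ℤ × ℤ, Nonempty (X2 H Z pq.1 pq.2 ≅
      SpSeq.grPiece (fil0 (H' (pq.1 + pq.2))) (fil0_anti _) pq.1) := by
    rintro ⟨p, q⟩
    by_cases hp : p = 0
    · subst hp
      obtain ⟨g⟩ := gr_fil0_zero (H' (0 + q))
      rcases lt_or_ge q 0 with hq | hq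
      · exact ⟨IsZero.iso (isZero_X2 H Z hZ 0 q (Or.inr hq)) ((hneg _ (by omega)).of_iso g)⟩
      · obtain ⟨m, rfl⟩ : ∃ m : ℕ, q = m := ⟨q.toNat, by omega⟩
        exact ⟨(e m).some.symm ≪≫ eqToIso (by rw [zero_add]) ≪≫ g.symm⟩
    · exact ⟨IsZero.iso (isZero_X2 H Z hZ p q (Or.inl hp)) (isZero_gr_fil0 _ hp)⟩
  let a : SpSeq.Abutment E H' :=
    { fil := fun n => fil0 (H' n)
      anti := fun n => fil0_anti _
      rk := fun _ => 2
      stat := fun pq => ⟨by omega, fun r' h₀ h => by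
        change (pages H A r₀ r Z r').d _ _ = 0 ∧ (pages H A r₀ r Z r').d _ _ = 0
        rw [pages_of_ne H A r₀ r Z (show r' ≠ 1 by omega)]
        exact ⟨rfl, rfl⟩⟩
      β := fun pq => eqToIso (by
        change (pages H A r₀ r Z 2).X pq = _
        rw [pages_of_ne H A r₀ r Z (show (2 : ℤ) ≠ 1 by omega)]; rfl) ≪≫ (hne pq).some }
  have h1 : ∀ pq, (E.page 1 le_rfl).X pq = X1 A Z pq.1 pq.2 := fun pq => by
    change (pages H A r₀ r Z 1).X pq = _
    rw [pages_one]; rfl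
  refine ⟨E, a, fun n => ⟨⟨0, show fil0 (H' n) 0 = ⊤ from if_pos le_rfl⟩, ⟨1, show fil0 (H' n) 1 = ⊥ from if_neg (by omega)⟩⟩,
    fun n => (Set.finite_Icc 0 n).subset fun p hp => ?_, fun p q => ⟨eqToIso (h1 (p, q))⟩⟩
  by_contra hc
  refine hp ?_
  rw [h1]
  refine isZero_X1 A Z hZ _ _ ?_
  simp only [Set.mem_Icc] at hc
  omega

end SS

end Groth.Agent.CohTopDesc
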