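import Groth.Agent.CohTopDesc.Retract
import Groth.Agent.CohTopDesc.SplitSS

/-!
The descent spectral sequence of a map with a section.
-/

set_option autoImplicit false
set_option linter.style.haveILetI false
set_option backward.isDefEq.respectTransparency false
set_option backward.isDefEq.respectTransparency.types false

universe u

open CategoryTheory Category Limits

namespace Groth.Agent.CohTopDesc

theorem descent_ss_of_section {X S : TopCat.{u}} (f : X ⟶ S) (s : S ⟶ X) (hs : s ≫ f = 𝟙 S) (F : CohTop.Ab S) :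
    ∃ (E : CohomologicalSpectralSequence AddCommGrpCat.{u} 1) (a : SpSeq.Abutment E (fun n : ℤ => if 0 ≤ n then AddCommGrpCat.of (CohTop.H F n.toNat) else AddCommGrpCat.of PUnit.{u + 1})), (∀ n, a.IsFinite n) ∧ SpSeq.IsBounded E ∧ ∀ p q : ℤ, Nonempty ((E.page 1 le_rfl).X (p, q) ≅ (if 0 ≤ p ∧ 0 ≤ q then AddCommGrpCat.of (CohTop.H ((CohTop.pull (WidePullback.base (fun _ : Fin (p.toNat + 1) => f) : widePullback S (fun _ : Fin (p.toNat + 1) => X) (fun _ => f) ⟶ S)).obj F) q.toNat) else AddCommGrpCat.of PUnit.{u + 1})) := by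
  let H : ℕ → AddCommGrpCat.{u} := fun q => AddCommGrpCat.of (CohTop.H F q)
  let A : ℕ → ℕ → AddCommGrpCat.{u} := fun q p => AddCommGrpCat.of (CohTop.H (Fp f F p) q)
  choose a₀ b₀ h₀ using fun q => exists_retract_zero f s hs F q
  choose a₁ b₁ h₁ using fun q p => exists_retract_succ f s hs F p q
  obtain ⟨E, a, ha, hb, hX⟩ := exists_splitSS H A (fun q => ⟨a₀ q, b₀ q, h₀ q⟩)
    (fun q p => ⟨a₁ q p, b₁ q p, h₁ q p⟩) (AddCommGrpCat.of PUnit.{u + 1}) (AddCommGrpCat.isZero_of_subsingleton _)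
    (fun n : ℤ => if 0 ≤ n then AddCommGrpCat.of (CohTop.H F n.toNat) else AddCommGrpCat.of PUnit.{u + 1})
    (fun q => ⟨eqToIso (if_pos (Int.natCast_nonneg q))⟩)
    (fun n hn => by rw [if_neg (not_le.2 hn)]; exact AddCommGrpCat.isZero_of_subsingleton _)
  refine ⟨E, a, ha, hb, fun p q => ⟨(hX p q).some ≪≫ eqToIso ?_⟩⟩
  cases p with
  | ofNat m =>
    cases q with
    | ofNat n => exact (if_pos ⟨Int.natCast_nonneg m, Int.natCast_nonneg n⟩).symm
    | negSucc n => exact (if_neg (fun h => absurd h.2 (by omega))).symm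
  | negSucc m => exact (if_neg (fun h => absurd h.1 (by omega))).symm

end Groth.Agent.CohTopDesc
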