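import Groth.Agent.HDU.Top
import Groth.Prelude.Def_CohTop
import Mathlib.Algebra.Homology.DerivedCategory.Ext.Map
import Mathlib.Algebra.Homology.DerivedCategory.Ext.ExactSequences
import Mathlib.Algebra.Homology.DerivedCategory.Ext.EnoughInjectives
import Mathlib.CategoryTheory.Limits.Shapes.WidePullbacks
import Mathlib.Topology.Category.TopCat.Limits.Basic

/-!
Cohomology of abelian sheaves: an inverse image along a map with a section contains the
cohomology of the target as a direct summand.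
-/

set_option autoImplicit false
set_option linter.style.haveILetI false
set_option linter.unusedSectionVars false
set_option backward.isDefEq.respectTransparency false
set_option backward.isDefEq.respectTransparency.types false

universe w w' v v' u u'

open CategoryTheory Category Limits Opposite TopologicalSpace Abelian

namespace Groth.Agent.CohTopDesc

section ExtNat

variable {A : Type u} [Category.{v} A] [Abelian A] {B : Type u'} [Category.{v'} B] [Abelian B]
  [HasExt.{w} A] [HasExt.{w'} B] [EnoughInjectives A]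
  (G₁ : A ⥤ B) [G₁.Additive] [PreservesFiniteLimits G₁] [PreservesFiniteColimits G₁]
  (G₂ : B ⥤ A) [G₂.Additive] [PreservesFiniteLimits G₂] [PreservesFiniteColimits G₂]

/-- Mapping an extension by a composite isomorphic to the identity and conjugating gives it back. -/
theorem ext_map_map_eq (Φ : G₁ ⋙ G₂ ≅ 𝟭 A) :
    ∀ (n : ℕ) (Z F : A) (x : Ext.{w} Z F n),
      ((Ext.mk₀ (Φ.inv.app Z)).comp (((x.mapExactFunctor G₁).mapExactFunctor G₂)) (zero_add n)).comp
        (Ext.mk₀ (Φ.hom.app F)) (add_zero n) = x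
  | 0, Z, F, x => by
      obtain ⟨g, rfl⟩ := (Ext.mk₀_bijective Z F).2 x
      rw [Ext.mapExactFunctor_mk₀, Ext.mapExactFunctor_mk₀, Ext.mk₀_comp_mk₀, Ext.mk₀_comp_mk₀]
      congr 1
      rw [assoc, show G₂.map (G₁.map g) ≫ Φ.hom.app F = Φ.hom.app Z ≫ g from Φ.hom.naturality g,
        Iso.inv_hom_id_app_assoc]
  | n + 1, Z, F, x => by
      let S : ShortComplex A := ShortComplex.mk (Injective.ι F) (cokernel.π _) (cokernel.condition _)
      have hS : S.ShortExact :=
        { exact := ShortComplex.exact_cokernel _ }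
      haveI : Injective S.X₂ := inferInstanceAs (Injective (Injective.under F))
      obtain ⟨y, hy⟩ := Ext.covariant_sequence_exact₁ Z hS x (Ext.eq_zero_of_injective _) (n₀ := n) rfl
      have hy' : y.comp hS.extClass rfl = x := hy
      rw [← hy', Ext.mapExactFunctor_comp, Ext.mapExactFunctor_comp, Ext.mapExactFunctor_extClass,
        Ext.mapExactFunctor_extClass]
      have hnat := ShortComplex.ShortExact.extClass_naturality ((hS.map_of_exact G₁).map_of_exact G₂) hS
        (S.mapNatTrans Φ.hom)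
      rw [Ext.comp_assoc (α := Ext.mk₀ (Φ.inv.app Z)) (a₁₂ := n + 1) (a₂₃ := n + 1) _ _ _ _ (by simp),
        Ext.comp_assoc (a₁₂ := n + 1) (a₂₃ := 1) _ _ _ _ (by omega)]
      erw [hnat]
      rw [← Ext.comp_assoc (a₁₂ := n) (a₂₃ := 1) _ _ _ _ (by simp),
        ← Ext.comp_assoc (a₁₂ := n) (a₂₃ := n + 1) _ _ _ _ (by simp),
        ← Ext.comp_assoc (a₁₂ := n) (a₂₃ := n) _ _ _ _ (by simp)]
      congr 1
      exact ext_map_map_eq Φ n Z _ y
      all_goals omega

end ExtNat

variable {X Y : TopCat.{u}}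

/-- The adjunction of inverse and direct image. -/
noncomputable abbrev adj (g : X ⟶ Y) : CohTop.pull g ⊣ CohTop.push g :=
  TopCat.Sheaf.pullbackPushforwardAdjunction AddCommGrpCat.{u} g

instance pull_preservesFiniteColimits (g : X ⟶ Y) : PreservesFiniteColimits (CohTop.pull g) := by
  haveI := (adj g).leftAdjoint_preservesColimits
  infer_instance

instance pull_additive (g : X ⟶ Y) : (CohTop.pull g).Additive := (adj g).left_adjoint_additive

/-- The top open is terminal. -/
noncomputable def topTerminal (X : TopCat.{u}) : IsTerminal (⊤ : Opens X) :=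
  IsTerminal.ofUniqueHom (fun U => homOfLE le_top) fun _ _ => Subsingleton.elim _ _

/-- Inverse image of the constant sheaf. -/
noncomputable def pullConst (g : X ⟶ Y) :
    (CohTop.pull g).obj ((constantSheaf (Opens.grothendieckTopology Y) AddCommGrpCat.{u}).obj (AddCommGrpCat.of (ULift ℤ))) ≅
      (constantSheaf (Opens.grothendieckTopology X) AddCommGrpCat.{u}).obj (AddCommGrpCat.of (ULift ℤ)) :=
  (Adjunction.leftAdjointUniq ((constantSheafAdj _ _ (topTerminal Y)).comp (adj g))
    ((constantSheafAdj _ _ (topTerminal X)).ofNatIsoRight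
      (Iso.refl ((sheafSections (Opens.grothendieckTopology X) AddCommGrpCat.{u}).obj (op ⊤))))).app _

/-- Inverse images along composites. -/
noncomputable def pullCompIso {Z : TopCat.{u}} (g : X ⟶ Y) (h : Y ⟶ Z) (k : X ⟶ Z) (e : g ≫ h = k) :
    CohTop.pull h ⋙ CohTop.pull g ≅ CohTop.pull k :=
  Adjunction.leftAdjointUniq ((adj h).comp (adj g))
    ((adj k).ofNatIsoRight (eqToIso (by subst e; rfl)))

/-- Inverse image along the identity. -/
noncomputable def pullIdIso : CohTop.pull (𝟙 X) ≅ 𝟭 (CohTop.Ab X) :=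
  Adjunction.leftAdjointUniq (adj (𝟙 X)) (Adjunction.id.ofNatIsoRight (eqToIso rfl))

/-- Pull back of cohomology classes. -/
noncomputable def pullH (g : Y ⟶ X) (F : CohTop.Ab X) (n : ℕ) :
    CohTop.H F n →+ CohTop.H ((CohTop.pull g).obj F) n :=
  (Ext.precompOfLinear (Ext.mk₀ (pullConst g).inv) ℤ _ (zero_add n)).toAddMonoidHom.comp
    ((CohTop.pull g).mapExtAddHom _ F n)

theorem exists_retract (g : Y ⟶ X) (σ : X ⟶ Y) (h : σ ≫ g = 𝟙 X) (F : CohTop.Ab X) (n : ℕ) :
    ∃ (a : CohTop.H F n →+ CohTop.H ((CohTop.pull g).obj F) n)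
      (b : CohTop.H ((CohTop.pull g).obj F) n →+ CohTop.H F n), ∀ x, b (a x) = x := by
  let Φ : CohTop.pull g ⋙ CohTop.pull σ ≅ 𝟭 (CohTop.Ab X) :=
    pullCompIso σ g (𝟙 X) h ≪≫ pullIdIso
  let Z := (constantSheaf (Opens.grothendieckTopology X) AddCommGrpCat.{u}).obj (AddCommGrpCat.of (ULift.{u} ℤ))
  let κ := Φ.inv.app Z ≫ (CohTop.pull σ).map (pullConst g).hom
  let b' : CohTop.H ((CohTop.pull g).obj F) n → CohTop.H F n := fun y =>
    ((Ext.mk₀ κ).comp (y.mapExactFunctor (CohTop.pull σ)) (zero_add n)).comp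
      (Ext.mk₀ (Φ.hom.app F)) (add_zero n)
  refine ⟨pullH g F n, AddMonoidHom.mk' b' fun y y' => by simp [b'], fun x => ?_⟩
  change b' ((Ext.mk₀ (pullConst g).inv).comp (x.mapExactFunctor (CohTop.pull g)) (zero_add n)) = x
  simp only [b', Ext.mapExactFunctor_comp, Ext.mapExactFunctor_mk₀]
  rw [Ext.mk₀_comp_mk₀_assoc, show κ ≫ (CohTop.pull σ).map (pullConst g).inv = Φ.inv.app Z by
    rw [assoc, ← Functor.map_comp, Iso.hom_inv_id, CategoryTheory.Functor.map_id]; exact comp_id _]
  exact ext_map_map_eq _ _ Φ n Z F x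

/-- Cohomology of isomorphic sheaves. -/
noncomputable def hIso {F F' : CohTop.Ab X} (e : F ≅ F') (n : ℕ) :
    AddCommGrpCat.of (CohTop.H F n) ≅ AddCommGrpCat.of (CohTop.H F' n) :=
  (extFunctorObj _ n).mapIso e

section Powers

variable {S : TopCat.{u}} (f : X ⟶ S) (s : S ⟶ X) (hs : s ≫ f = 𝟙 S) (F : CohTop.Ab S)

/-- The fibre power. -/
noncomputable abbrev P (p : ℕ) : TopCat.{u} :=
  widePullback S (fun _ : Fin (p + 1) => X) (fun _ => f)

/-- Its structure map. -/
noncomputable abbrev base (p : ℕ) : P f p ⟶ S := WidePullback.base (fun _ : Fin (p + 1) => f)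

/-- The pulled back sheaf. -/
noncomputable abbrev Fp (p : ℕ) : CohTop.Ab (P f p) := (CohTop.pull (base f p)).obj F

include hs in
theorem exists_retract_zero (n : ℕ) : ∃ (a : AddCommGrpCat.of (CohTop.H F n) ⟶ AddCommGrpCat.of (CohTop.H (Fp f F 0) n))
    (b : AddCommGrpCat.of (CohTop.H (Fp f F 0) n) ⟶ AddCommGrpCat.of (CohTop.H F n)), a ≫ b = 𝟙 _ := by
  obtain ⟨a, b, h⟩ := exists_retract (base f 0) (WidePullback.lift (𝟙 S) (fun _ => s) (fun _ => hs))
    (WidePullback.lift_base _ _ _ _) F n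
  exact ⟨AddCommGrpCat.ofHom a, AddCommGrpCat.ofHom b, AddCommGrpCat.ext h⟩

include hs in
theorem exists_retract_succ (p n : ℕ) :
    ∃ (a : AddCommGrpCat.of (CohTop.H (Fp f F p) n) ⟶ AddCommGrpCat.of (CohTop.H (Fp f F (p + 1)) n))
    (b : AddCommGrpCat.of (CohTop.H (Fp f F (p + 1)) n) ⟶ AddCommGrpCat.of (CohTop.H (Fp f F p) n)),
      a ≫ b = 𝟙 _ := by
  let g : P f (p + 1) ⟶ P f p := WidePullback.lift (base f (p + 1))
    (fun i => WidePullback.π (fun _ : Fin (p + 1 + 1) => f) i.succ) (fun i => WidePullback.π_arrow _ _)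
  let σ : P f p ⟶ P f (p + 1) := WidePullback.lift (base f p)
    (fun i => Fin.cases (base f p ≫ s) (fun j => WidePullback.π (fun _ : Fin (p + 1) => f) j) i)
    (fun i => by
      cases i using Fin.cases with
      | zero => simp [hs]
      | succ j => simp)
  have hσ : σ ≫ g = 𝟙 _ := by
    refine WidePullback.hom_ext _ _ _ (fun i => ?_) ?_
    · rw [assoc, WidePullback.lift_π, WidePullback.lift_π, id_comp, Fin.cases_succ]
    · rw [assoc, WidePullback.lift_base, WidePullback.lift_base, id_comp]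
  obtain ⟨a, b, h⟩ := exists_retract g σ hσ (Fp f F p) n
  let e := hIso ((pullCompIso g (base f p) (base f (p + 1)) (WidePullback.lift_base _ _ _ _)).app F) n
  exact ⟨AddCommGrpCat.ofHom a ≫ e.hom, e.inv ≫ AddCommGrpCat.ofHom b, by
    rw [assoc, Iso.hom_inv_id_assoc]; exact AddCommGrpCat.ext h⟩

end Powers

end Groth.Agent.CohTopDesc
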